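import Cfsg.Agent.R2.Spec.F1.GoodS
import Cfsg.Agent.R2.Spec.E.Duel

/-!
# S3435, packet RKS: the number of pairwise nonadjacent regular classes bounds the rank (helper7)

* `clq t k l` : search for `k` pairwise nonadjacent members in the list `l`; `clq_of` : soundness;
* `rkFour_of_coq`, `rkFive_of_coq` : four (five) pairwise nonadjacent regular classes give `RkFour t` (`RkFive t`);
* `rkFour_of_list`, `rkFive_of_list` : for explicit classes.
-/

set_option autoImplicit false
set_option linter.unusedSectionVars false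
set_option linter.unusedVariables false

namespace Cfsg.Agent.R2.Spec.RKS

open Cfsg.Agent.H426.LieFam Cfsg.Agent.R2.Spec Cfsg.Agent.R2.Spec.P1 Cfsg.Agent.R2.Spec.F1 Cfsg.Agent.R2.Spec.E

theorem oddMul_of_oddB {i j : ℕ} (h : oddB i j = true) : OddMul i j := by
  rw [oddB, Bool.and_eq_true, beq_iff_eq, beq_iff_eq] at h
  exact ⟨j / i, h.2, (Nat.mul_div_cancel' (Nat.dvd_of_mod_eq_zero h.1)).symm⟩

theorem naB_of_na {t : Fam} {i j : ℕ} (h : na t i j) : naB t i j = true := by
  have ho : ∀ {i j : ℕ}, ¬ OddMul i j → (!(oddB i j)) = true := by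
    intro i j hn
    rw [Bool.not_eq_true']
    by_contra hcon
    rw [Bool.not_eq_false] at hcon
    exact hn (oddMul_of_oddB hcon)
  cases t with
  | psl n =>
    simp only [naB, Bool.and_eq_true, decide_eq_true_eq, Bool.not_eq_true', decide_eq_false_iff_not]
    exact ⟨⟨h.1, h.2.1⟩, h.2.2⟩
  | psu n =>
    simp only [naB, Bool.and_eq_true, decide_eq_true_eq, Bool.not_eq_true', decide_eq_false_iff_not]
    exact ⟨⟨h.1, h.2.1⟩, h.2.2⟩
  | psp n =>
    simp only [naB, Bool.and_eq_true, decide_eq_true_eq]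
    exact ⟨⟨h.1, ho h.2.1⟩, ho h.2.2⟩
  | oodd n =>
    simp only [naB, Bool.and_eq_true, decide_eq_true_eq]
    exact ⟨⟨h.1, ho h.2.1⟩, ho h.2.2⟩
  | oplus n =>
    obtain ⟨h1, h2, h3, h4, h5⟩ := h
    simp only [naB, Bool.and_eq_true, decide_eq_true_eq]
    refine ⟨⟨⟨⟨h1, ho h2⟩, ho h3⟩, ?_⟩, ?_⟩
    · rw [Bool.not_eq_true', decide_eq_false_iff_not]
      exact h4
    · rw [Bool.not_eq_true', decide_eq_false_iff_not]
      exact h5
  | ominus n =>
    obtain ⟨h1, h2, h3⟩ := h
    simp only [naB, Bool.and_eq_true, decide_eq_true_eq]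
    exact ⟨⟨h1, ho h2⟩, ho h3⟩
  | _ => exact h.elim

/-- search for `k` pairwise nonadjacent members of `l` -/
def clq (t : Fam) : ℕ → List ℕ → Bool
  | 0, _ => true
  | k + 1, l => l.any fun a => clq t k (l.filter fun b => decide (a < b) && naB t a b)

theorem clq_of {t : Fam} (k : ℕ) : ∀ (l : List ℕ) (I : Finset ℕ), (∀ i ∈ I, i ∈ l) →
    (∀ i ∈ I, ∀ j ∈ I, i ≠ j → na t i j) → k ≤ I.card → clq t k l = true := by
  induction k with
  | zero => intro l I _ _ _; rfl
  | succ k ih =>
    intro l I hl hna hk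
    have hne : I.Nonempty := Finset.card_pos.1 (by omega)
    set a := I.min' hne with ha
    have haI : a ∈ I := I.min'_mem hne
    change (l.any fun a => clq t k (l.filter fun b => decide (a < b) && naB t a b)) = true
    rw [List.any_eq_true]
    refine ⟨a, hl a haI, ih _ (I.erase a) ?_ ?_ ?_⟩
    · intro i hi
      have hiI := Finset.mem_of_mem_erase hi
      have hia := Finset.ne_of_mem_erase hi
      rw [List.mem_filter]
      refine ⟨hl i hiI, ?_⟩
      rw [Bool.and_eq_true, decide_eq_true_iff]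
      exact ⟨lt_of_le_of_ne (I.min'_le i hiI) hia.symm, naB_of_na (hna a haI i hiI hia.symm)⟩
    · intro i hi j hj hij
      exact hna i (Finset.mem_of_mem_erase hi) j (Finset.mem_of_mem_erase hj) hij
    · rw [Finset.card_erase_of_mem haI]
      omega

theorem memB_of_mem {t : Fam} {i : ℕ} (h : mem t i) : memB t i = true := by
  cases t with
  | psl n => exact decide_eq_true (p := i ≤ n) h
  | psu n => exact decide_eq_true (p := i ≤ n) h
  | psp n => exact decide_eq_true (p := eta i ≤ n) h
  | oodd n => exact decide_eq_true (p := eta i ≤ n) h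
  | oplus n => exact decide_eq_true (p := eta i + 1 ≤ n ∨ (i = n ∧ n % 2 = 1)) h
  | ominus n => exact decide_eq_true (p := eta i + 1 ≤ n ∨ i = 2 * n) h
  | _ => exact h.elim

theorem le_two_mul_eta (i : ℕ) : i ≤ 2 * eta i := by
  rcases eta_cases i with ⟨h1, h2⟩ | ⟨h1, h2⟩ <;> omega

theorem le_of_mem {t : Fam} {i : ℕ} (h : mem t i) : i ≤ 2 * rk t := by
  have h1 := le_two_mul_eta i
  cases t with
  | psl n =>
    have h2 : i ≤ n := h
    change i ≤ 2 * n
    omega
  | psu n =>
    have h2 : i ≤ n := h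
    change i ≤ 2 * n
    omega
  | psp n =>
    have h2 : eta i ≤ n := h
    change i ≤ 2 * n
    omega
  | oodd n =>
    have h2 : eta i ≤ n := h
    change i ≤ 2 * n
    omega
  | oplus n =>
    have h2 : eta i + 1 ≤ n ∨ (i = n ∧ n % 2 = 1) := h
    change i ≤ 2 * n
    omega
  | ominus n =>
    have h2 : eta i + 1 ≤ n ∨ i = 2 * n := h
    change i ≤ 2 * n
    omega
  | _ => exact h.elim

/-- the regular classes -/
def clsL (t : Fam) : List ℕ := (List.range (2 * rk t + 1)).filter fun i => decide (3 ≤ i) && memB t i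

theorem mem_clsL {t : Fam} {i : ℕ} (h3 : 3 ≤ i) (h : mem t i) : i ∈ clsL t := by
  rw [clsL, List.mem_filter, List.mem_range, Bool.and_eq_true, decide_eq_true_iff]
  exact ⟨by have := le_of_mem h; omega, h3, memB_of_mem h⟩

theorem clq_coq {t : Fam} {k : ℕ} {I : Finset ℕ} (h1 : ∀ i ∈ I, 3 ≤ i ∧ mem t i)
    (h2 : ∀ i ∈ I, ∀ j ∈ I, i ≠ j → na t i j) (hk : k ≤ I.card) : clq t k (clsL t) = true :=
  clq_of k _ I (fun i hi => mem_clsL (h1 i hi).1 (h1 i hi).2) h2 hk

theorem clq_psl4 : ∀ n < 7, clq (.psl n) 4 (clsL (.psl n)) = false := by decide +kernel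
theorem clq_psu4 : ∀ n < 7, clq (.psu n) 4 (clsL (.psu n)) = false := by decide +kernel
theorem clq_psp4 : ∀ n < 4, clq (.psp n) 4 (clsL (.psp n)) = false := by decide +kernel
theorem clq_oodd4 : ∀ n < 4, clq (.oodd n) 4 (clsL (.oodd n)) = false := by decide +kernel
theorem clq_oplus4 : ∀ n < 5, clq (.oplus n) 4 (clsL (.oplus n)) = false := by decide +kernel
theorem clq_ominus4 : ∀ n < 4, clq (.ominus n) 4 (clsL (.ominus n)) = false := by decide +kernel
theorem clq_psl5 : ∀ n < 9, clq (.psl n) 5 (clsL (.psl n)) = false := by decide +kernel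
theorem clq_psu5 : ∀ n < 9, clq (.psu n) 5 (clsL (.psu n)) = false := by decide +kernel
theorem clq_psp5 : ∀ n < 5, clq (.psp n) 5 (clsL (.psp n)) = false := by decide +kernel
theorem clq_oodd5 : ∀ n < 5, clq (.oodd n) 5 (clsL (.oodd n)) = false := by decide +kernel
theorem clq_oplus5 : ∀ n < 7, clq (.oplus n) 5 (clsL (.oplus n)) = false := by decide +kernel
theorem clq_ominus5 : ∀ n < 6, clq (.ominus n) 5 (clsL (.ominus n)) = false := by decide +kernel

/-- **Four pairwise nonadjacent regular classes.** -/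
theorem rkFour_of_coq {t : Fam} (ht : Classical t) {I : Finset ℕ} (h1 : ∀ i ∈ I, 3 ≤ i ∧ mem t i)
    (h2 : ∀ i ∈ I, ∀ j ∈ I, i ≠ j → na t i j) (h4 : 4 ≤ I.card) : RkFour t := by
  have h := clq_coq h1 h2 h4
  by_contra hcon
  cases t with
  | psl n =>
    rw [clq_psl4 n (by change ¬ 7 ≤ n at hcon; omega)] at h
    exact Bool.noConfusion h
  | psu n =>
    rw [clq_psu4 n (by change ¬ 7 ≤ n at hcon; omega)] at h
    exact Bool.noConfusion h
  | psp n =>
    rw [clq_psp4 n (by change ¬ 4 ≤ n at hcon; omega)] at h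
    exact Bool.noConfusion h
  | oodd n =>
    rw [clq_oodd4 n (by change ¬ 4 ≤ n at hcon; omega)] at h
    exact Bool.noConfusion h
  | oplus n =>
    rw [clq_oplus4 n (by change ¬ 5 ≤ n at hcon; omega)] at h
    exact Bool.noConfusion h
  | ominus n =>
    rw [clq_ominus4 n (by change ¬ 4 ≤ n at hcon; omega)] at h
    exact Bool.noConfusion h
  | _ => exact ht.elim

/-- **Five pairwise nonadjacent regular classes.** -/
theorem rkFive_of_coq {t : Fam} (ht : Classical t) {I : Finset ℕ} (h1 : ∀ i ∈ I, 3 ≤ i ∧ mem t i)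
    (h2 : ∀ i ∈ I, ∀ j ∈ I, i ≠ j → na t i j) (h5 : 5 ≤ I.card) : RkFive t := by
  have h := clq_coq h1 h2 h5
  by_contra hcon
  cases t with
  | psl n =>
    rw [clq_psl5 n (by change ¬ 9 ≤ n at hcon; omega)] at h
    exact Bool.noConfusion h
  | psu n =>
    rw [clq_psu5 n (by change ¬ 9 ≤ n at hcon; omega)] at h
    exact Bool.noConfusion h
  | psp n =>
    rw [clq_psp5 n (by change ¬ 5 ≤ n at hcon; omega)] at h
    exact Bool.noConfusion h
  | oodd n =>
    rw [clq_oodd5 n (by change ¬ 5 ≤ n at hcon; omega)] at h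
    exact Bool.noConfusion h
  | oplus n =>
    rw [clq_oplus5 n (by change ¬ 7 ≤ n at hcon; omega)] at h
    exact Bool.noConfusion h
  | ominus n =>
    rw [clq_ominus5 n (by change ¬ 6 ≤ n at hcon; omega)] at h
    exact Bool.noConfusion h
  | _ => exact ht.elim

theorem rkFour_of_rkFive {t : Fam} (h : RkFive t) : RkFour t := by
  cases t with
  | psl n =>
    have h1 : 9 ≤ n := h
    change 7 ≤ n
    omega
  | psu n =>
    have h1 : 9 ≤ n := h
    change 7 ≤ n
    omega
  | psp n =>
    have h1 : 5 ≤ n := h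
    change 4 ≤ n
    omega
  | oodd n =>
    have h1 : 5 ≤ n := h
    change 4 ≤ n
    omega
  | oplus n =>
    have h1 : 7 ≤ n := h
    change 5 ≤ n
    omega
  | ominus n =>
    have h1 : 6 ≤ n := h
    change 4 ≤ n
    omega
  | _ => exact h.elim

/-- four classes, explicitly -/
theorem rkFour_of_four {t : Fam} (ht : Classical t) {a b c d : ℕ} (ha : 3 ≤ a ∧ mem t a) (hb : 3 ≤ b ∧ mem t b)
    (hc : 3 ≤ c ∧ mem t c) (hd : 3 ≤ d ∧ mem t d) (hab : na t a b) (hac : na t a c) (had : na t a d) (hbc : na t b c)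
    (hbd : na t b d) (hcd : na t c d) : RkFour t := by
  refine rkFour_of_coq ht (I := {a, b, c, d}) ?_ ?_ ?_
  · intro i hi
    rw [Finset.mem_insert, Finset.mem_insert, Finset.mem_insert, Finset.mem_singleton] at hi
    rcases hi with rfl | rfl | rfl | rfl <;> assumption
  · intro i hi j hj hij
    rw [Finset.mem_insert, Finset.mem_insert, Finset.mem_insert, Finset.mem_singleton] at hi hj
    rcases hi with rfl | rfl | rfl | rfl <;> rcases hj with rfl | rfl | rfl | rfl <;>
      first
      | exact absurd rfl hij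
      | assumption
      | (apply na_symm; assumption)
  · have h1 := na_ne hab
    have h2 := na_ne hac
    have h3 := na_ne had
    have h4 := na_ne hbc
    have h5 := na_ne hbd
    have h6 := na_ne hcd
    rw [Finset.card_insert_of_notMem, Finset.card_insert_of_notMem, Finset.card_insert_of_notMem,
      Finset.card_singleton]
    · rw [Finset.mem_singleton]; exact h6
    · rw [Finset.mem_insert, Finset.mem_singleton, not_or]; exact ⟨h4, h5⟩
    · rw [Finset.mem_insert, Finset.mem_insert, Finset.mem_singleton, not_or, not_or]; exact ⟨h1, h2, h3⟩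

end Cfsg.Agent.R2.Spec.RKS
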