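import Cfsg.Agent.R2.Spec.F1.TopC2
import Cfsg.Agent.R2.Spec.RKS.Clq

/-!
# S3435, packet RKS: the rank of `S` (helper7)

* `Frm.irr_few` : a prime `x ≥ 5`, `x ≠ v` of class at most two is nonadjacent only to the primes of the top classes;
* `Frm.reg_five`, `Frm.rkFive` : five pairwise nonadjacent primes `≥ 5`, `≠ v` of `S` : their classes are regular, `RkFive`;
* `LS.rkFive`, `LS.rkFour` (`Five t`), `LS.rkFive_small` (`SmallT t`);
* `LS.big_reg`, `LS.small_reg` : the primes of the big classes of `L` have regular classes in `S`.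
-/

set_option autoImplicit false
set_option linter.unusedSectionVars false
set_option linter.unusedVariables false

namespace Cfsg.Agent.R2.Spec.RKS

open Subgroup Cfsg
open Cfsg.Agent.H426.LieFam Cfsg.Agent.R2.Spec Cfsg.Agent.R2.Spec.P1 Cfsg.Agent.R2.Spec.F1 Cfsg.Agent.R2.Spec.E
open Cfsg.Agent.H420.QR

universe u w

section S

variable {G : Type u} [Group G] [Finite G] {K : Subgroup G} [K.Normal] {S : Subgroup (G ⧸ K)} [S.Normal] {t : Fam}
  {v f : ℕ}

/-- an irregular prime is nonadjacent only to the top classes -/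
theorem irr_few (h : Frm G K S t v f) (hS : BigS t) {x y : ℕ} (hx : x.Prime) (hy : y.Prime) (hx5 : 5 ≤ x)
    (hy5 : 5 ≤ y) (hxy : x ≠ y) (hxv : x ≠ v) (hyv : y ≠ v) (hxS : x ∣ Nat.card S) (hyS : y ∣ Nat.card S)
    (hirr : cls t (v ^ f) x ≤ 2) (hna : ¬ ∃ g : S, orderOf g = x * y) :
    cls t (v ^ f) y ∈ TV t := by
  have hc := h.cla
  have hw : rk t < wS t (v ^ f) x + wS t (v ^ f) y + cS t := by
    by_contra hcon
    exact hna (adj_wS hc h.is hx hy hxy (by omega))
  have hyv' : ¬ y ∣ v := fun hd => hyv ((Nat.prime_dvd_prime_iff_eq hy h.prime).1 hd)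
  have hF := adjFacts h.cla h.prime h.is
  have hq : 1 ≤ v ^ f := Nat.one_le_pow _ _ h.prime.pos
  have hL : (∃ n, t = .psl n ∨ t = .psu n) ∨ ((∀ n, t ≠ .psl n) ∧ ∀ n, t ≠ .psu n) := by
    by_cases hL : ∃ n, t = .psl n ∨ t = .psu n
    · exact Or.inl hL
    · push Not at hL
      exact Or.inr ⟨fun n => (hL n).1, fun n => (hL n).2⟩
  rcases hL with ⟨n, hn⟩ | ⟨hL1, hL2⟩
  · -- linear, unitary
    have hx2 := wS_le_two hc hirr
    have hn4 : 4 ≤ n := by
      have h1 := h.is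
      rcases hn with rfl | rfl
      · have h2 : 2 ≤ n := h1.1
        by_contra hcon
        have : n = 2 ∨ n = 3 := by omega
        rcases this with rfl | rfl
        · exact hS.2.1 rfl
        · exact hS.2.2.1 rfl
      · have h2 : 3 ≤ n := h1.1
        by_contra hcon
        have : n = 3 := by omega
        subst this
        exact hS.2.2.2.1 rfl
    have hrk : rk t = n := by rcases hn with rfl | rfl <;> rfl
    have hcs : cS t = 0 := by rcases hn with rfl | rfl <;> rfl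
    have h3 : 3 ≤ cls t (v ^ f) y := by
      by_contra hcon
      have := wS_le_two hc (show cls t (v ^ f) y ≤ 2 by omega)
      omega
    have hm := (hF.dvd y hy (by omega) hyv' h3).1 hyS
    rw [wS_reg hc hq hy h3] at hw
    obtain ⟨i, hi⟩ : ∃ i, i = cls t (v ^ f) y := ⟨_, rfl⟩
    rw [← hi] at h3 hm hw ⊢
    rcases hn with rfl | rfl
    · have h4 : i ≤ n := hm
      change rk (.psl n) < _ + i + _ at hw
      change i ∈ ({n - 1, n} : Finset ℕ)
      rw [Finset.mem_insert, Finset.mem_singleton]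
      omega
    · have h4 : i ≤ n := hm
      change rk (.psu n) < _ + i + _ at hw
      change i ∈ ({n - 1, n} : Finset ℕ)
      rw [Finset.mem_insert, Finset.mem_singleton]
      omega
  · have hx1 := wS_le_one hc hL1 hL2 (by omega) (h.nd hx hxv) hirr
    have hrk3 : 3 ≤ rk t ∧ (cS t = 1 → 4 ≤ rk t) ∧ cS t ≤ 1 := by
      have h1 := h.is
      cases t with
      | psl n => exact absurd rfl (hL1 n)
      | psu n => exact absurd rfl (hL2 n)
      | psp n =>
        have h2 : 2 ≤ n := h1.1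
        have h3 : n ≠ 2 := by
          rintro rfl
          exact hS.2.2.2.2 rfl
        refine ⟨show 3 ≤ n by omega, fun h4 => absurd h4 (by change ¬ (0 = 1); omega), show 0 ≤ 1 by omega⟩
      | oodd n =>
        have h2 : 3 ≤ n := h1.1
        refine ⟨h2, fun h4 => absurd h4 (by change ¬ (0 = 1); omega), show 0 ≤ 1 by omega⟩
      | oplus n =>
        have h2 : 4 ≤ n := h1.1
        exact ⟨show 3 ≤ n by omega, fun _ => h2, le_refl 1⟩
      | ominus n =>
        have h2 : 4 ≤ n := h1.1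
        exact ⟨show 3 ≤ n by omega, fun _ => h2, le_refl 1⟩
      | _ => exact hc.elim
    have h3 : 3 ≤ cls t (v ^ f) y := by
      by_contra hcon
      have := wS_le_one hc hL1 hL2 (by omega) (h.nd hy hyv) (show cls t (v ^ f) y ≤ 2 by omega)
      omega
    have hm := (hF.dvd y hy (by omega) hyv' h3).1 hyS
    rw [wS_reg hc hq hy h3] at hw
    obtain ⟨i, hi⟩ : ∃ i, i = cls t (v ^ f) y := ⟨_, rfl⟩
    rw [← hi] at h3 hm hw ⊢
    cases t with
    | psl n => exact absurd rfl (hL1 n)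
    | psu n => exact absurd rfl (hL2 n)
    | psp n =>
      have h2 : n < wS (.psp n) (v ^ f) x + eta i + 0 := hw
      have h4 : eta i ≤ n := hm
      change i ∈ ({n, 2 * n} : Finset ℕ)
      rw [Finset.mem_insert, Finset.mem_singleton]
      rcases eta_cases i with h5 | h5 <;> omega
    | oodd n =>
      have h2 : n < wS (.oodd n) (v ^ f) x + eta i + 0 := hw
      have h4 : eta i ≤ n := hm
      change i ∈ ({n, 2 * n} : Finset ℕ)
      rw [Finset.mem_insert, Finset.mem_singleton]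
      rcases eta_cases i with h5 | h5 <;> omega
    | oplus n =>
      have h2 : n < wS (.oplus n) (v ^ f) x + eta i + 1 := hw
      have h4 : eta i + 1 ≤ n ∨ (i = n ∧ n % 2 = 1) := hm
      change i ∈ ({if n % 2 = 1 then n else n - 1, 2 * n - 2} : Finset ℕ)
      rw [Finset.mem_insert, Finset.mem_singleton]
      rcases eta_cases i with ⟨h5, h6⟩ | ⟨h5, h6⟩
      · rw [Nat.odd_iff] at h5
        split_ifs <;> omega
      · rw [Nat.even_iff] at h5
        split_ifs <;> omega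
    | ominus n =>
      have h2 : n < wS (.ominus n) (v ^ f) x + eta i + 1 := hw
      have h4 : eta i + 1 ≤ n ∨ i = 2 * n := hm
      change i ∈ ({n - 1, 2 * n - 2, 2 * n} : Finset ℕ)
      rw [Finset.mem_insert, Finset.mem_insert, Finset.mem_singleton]
      rcases eta_cases i with ⟨h5, h6⟩ | ⟨h5, h6⟩ <;> omega
    | _ => exact hc.elim

/-- **Five pairwise nonadjacent primes have regular classes.** -/
theorem reg_five (h : Frm G K S t v f) {X : Finset ℕ} (hX : ∀ x ∈ X, x.Prime ∧ 5 ≤ x ∧ x ≠ v ∧ x ∣ Nat.card S)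
    (hXX : ∀ x ∈ X, ∀ y ∈ X, x ≠ y → ¬ ∃ g : S, orderOf g = x * y) (h5 : 5 ≤ X.card) :
    ∀ x ∈ X, 3 ≤ cls t (v ^ f) x ∧ mem t (cls t (v ^ f) x) := by
  have hS : BigS t := h.bigS_of_four (fun x hx => ⟨(hX x hx).1, (hX x hx).2.1, (hX x hx).2.2.2⟩) hXX (by omega)
  intro x hx
  obtain ⟨hxp, hx5, hxv, hxS⟩ := hX x hx
  have h3 : 3 ≤ cls t (v ^ f) x := by
    by_contra hcon
    have h1 : ∀ y ∈ X.erase x, cls t (v ^ f) y ∈ TV t := by
      intro y hy
      have hyX := Finset.mem_of_mem_erase hy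
      have hyx := Finset.ne_of_mem_erase hy
      obtain ⟨hyp, hy5, hyv, hyS⟩ := hX y hyX
      exact irr_few h hS hxp hyp hx5 hy5 hyx.symm hxv hyv hxS hyS (by omega) (hXX x hx y hyX hyx.symm)
    have hinj : Set.InjOn (fun y => cls t (v ^ f) y) ((X.erase x : Finset ℕ) : Set ℕ) := by
      intro y hy z hz hyz
      by_contra hne
      have hyX := Finset.mem_of_mem_erase hy
      have hzX := Finset.mem_of_mem_erase hz
      obtain ⟨hyp, hy5, hyv, hyS⟩ := hX y hyX
      obtain ⟨hzp, hz5, hzv, hzS⟩ := hX z hzX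
      exact hXX y hyX z hzX hne (adj_same' h.cla h.prime h.is hyp hzp (by omega) (by omega) hne hyv hzv hyS hzS hyz)
    have h2 : (X.erase x).card ≤ (TV t).card := Finset.card_le_card_of_injOn _ h1 hinj
    have h4 := card_TV' t
    rw [Finset.card_erase_of_mem hx] at h2
    omega
  refine ⟨h3, ?_⟩
  have hxv' : ¬ x ∣ v := fun hd => hxv ((Nat.prime_dvd_prime_iff_eq hxp h.prime).1 hd)
  exact ((adjFacts h.cla h.prime h.is).dvd x hxp (by omega) hxv' h3).1 hxS

/-- regular primes which are pairwise nonadjacent have pairwise nonadjacent classes -/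
theorem na_of_reg (h : Frm G K S t v f) {x y : ℕ} (hx : x.Prime) (hy : y.Prime) (hx2 : x ≠ 2) (hy2 : y ≠ 2)
    (hxy : x ≠ y) (hxv : x ≠ v) (hyv : y ≠ v) (hx3 : 3 ≤ cls t (v ^ f) x) (hy3 : 3 ≤ cls t (v ^ f) y)
    (hxm : mem t (cls t (v ^ f) x)) (hym : mem t (cls t (v ^ f) y)) (hna : ¬ ∃ g : S, orderOf g = x * y) :
    na t (cls t (v ^ f) x) (cls t (v ^ f) y) := by
  by_contra hcon
  have hxv' : ¬ x ∣ v := fun hd => hxv ((Nat.prime_dvd_prime_iff_eq hx h.prime).1 hd)
  have hyv' : ¬ y ∣ v := fun hd => hyv ((Nat.prime_dvd_prime_iff_eq hy h.prime).1 hd)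
  exact hna (((adjFacts h.cla h.prime h.is).adj x y hx hy hx2 hy2 hxy hxv' hyv' hx3 hy3 hxm hym).2 hcon)

/-- the image of a set of pairwise nonadjacent regular primes -/
theorem coq_image (h : Frm G K S t v f) {X : Finset ℕ} (hX : ∀ x ∈ X, x.Prime ∧ x ≠ 2 ∧ x ≠ v)
    (hr : ∀ x ∈ X, 3 ≤ cls t (v ^ f) x ∧ mem t (cls t (v ^ f) x))
    (hXX : ∀ x ∈ X, ∀ y ∈ X, x ≠ y → ¬ ∃ g : S, orderOf g = x * y) :
    ∃ I : Finset ℕ, I.card = X.card ∧ (∀ i ∈ I, 3 ≤ i ∧ mem t i) ∧ ∀ i ∈ I, ∀ j ∈ I, i ≠ j → na t i j := by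
  classical
  have hinj : Set.InjOn (fun y => cls t (v ^ f) y) (X : Set ℕ) := by
    intro y hy z hz hyz
    by_contra hne
    exact na_ne (na_of_reg h (hX y hy).1 (hX z hz).1 (hX y hy).2.1 (hX z hz).2.1 hne (hX y hy).2.2 (hX z hz).2.2
      (hr y hy).1 (hr z hz).1 (hr y hy).2 (hr z hz).2 (hXX y hy z hz hne)) hyz
  refine ⟨X.image fun y => cls t (v ^ f) y, Finset.card_image_of_injOn hinj, ?_, ?_⟩
  · intro i hi
    obtain ⟨x, hx, rfl⟩ := Finset.mem_image.1 hi
    exact hr x hx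
  · intro i hi j hj hij
    obtain ⟨x, hx, rfl⟩ := Finset.mem_image.1 hi
    obtain ⟨y, hy, rfl⟩ := Finset.mem_image.1 hj
    have hne : x ≠ y := fun hxy => hij (by rw [hxy])
    exact na_of_reg h (hX x hx).1 (hX y hy).1 (hX x hx).2.1 (hX y hy).2.1 hne (hX x hx).2.2 (hX y hy).2.2
      (hr x hx).1 (hr y hy).1 (hr x hx).2 (hr y hy).2 (hXX x hx y hy hne)

/-- **Four pairwise nonadjacent regular primes.** -/
theorem rkFour_of (h : Frm G K S t v f) {X : Finset ℕ} (hX : ∀ x ∈ X, x.Prime ∧ x ≠ 2 ∧ x ≠ v)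
    (hr : ∀ x ∈ X, 3 ≤ cls t (v ^ f) x ∧ mem t (cls t (v ^ f) x))
    (hXX : ∀ x ∈ X, ∀ y ∈ X, x ≠ y → ¬ ∃ g : S, orderOf g = x * y) (h4 : 4 ≤ X.card) : RkFour t := by
  obtain ⟨I, h1, h2, h3⟩ := coq_image h hX hr hXX
  exact rkFour_of_coq h.cla h2 h3 (by omega)

/-- **Five pairwise nonadjacent primes of `S`, at least `5` and different from `v`.** -/
theorem rkFive_of (h : Frm G K S t v f) {X : Finset ℕ} (hX : ∀ x ∈ X, x.Prime ∧ 5 ≤ x ∧ x ≠ v ∧ x ∣ Nat.card S)
    (hXX : ∀ x ∈ X, ∀ y ∈ X, x ≠ y → ¬ ∃ g : S, orderOf g = x * y) (h5 : 5 ≤ X.card) : RkFive t := by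
  have hr := reg_five h hX hXX h5
  obtain ⟨I, h1, h2, h3⟩ := coq_image h (X := X) (fun x hx => ⟨(hX x hx).1, by have := (hX x hx).2.1; omega,
    (hX x hx).2.2.1⟩) hr hXX
  exact rkFive_of_coq h.cla h2 h3 (by omega)

end S

section L

variable {t : Fam} {p f : ℕ} {L : Type w} [Group L] [Finite L] {G : Type u} [Group G] [Finite G]
variable {K : Subgroup G} [K.Normal] {S : Subgroup (G ⧸ K)} [S.Normal]
variable {t' : Fam} {v f' : ℕ}

/-- a coclique of five good classes of `L` -/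
theorem core (h : LS t p f L G) (hF : Frm G K S t' v f') {I : Finset ℕ}
    (hreg : ∀ j ∈ I, 3 ≤ j ∧ mem t j) (hna : ∀ j ∈ I, ∀ k ∈ I, j ≠ k → na t j k)
    (hex : ∀ j ∈ I, ∃ r : ℕ, r.Prime ∧ cls t (p ^ f) r = j)
    (hgood : ∀ j ∈ I, ∀ r : ℕ, r.Prime → cls t (p ^ f) r = j → r ∣ Nat.card S ∧ r ≠ v) (h5 : 5 ≤ I.card) :
    RkFive t' ∧ ∀ j ∈ I, ∀ r : ℕ, r.Prime → cls t (p ^ f) r = j → 3 ≤ cls t' (v ^ f') r ∧
      mem t' (cls t' (v ^ f') r) := by
  classical
  choose! z hz using hex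
  have hzI : ∀ j ∈ I, In t (p ^ f) j (z j) := fun j hj => ⟨(hz j hj).1, (hz j hj).2, (hreg j hj).1, (hreg j hj).2⟩
  have key : ∀ z : ℕ → ℕ, (∀ j ∈ I, In t (p ^ f) j (z j)) → (I.image z).card = I.card ∧
      (∀ x ∈ I.image z, x.Prime ∧ 5 ≤ x ∧ x ≠ v ∧ x ∣ Nat.card S) ∧
      (∀ x ∈ I.image z, ∀ y ∈ I.image z, x ≠ y → ¬ ∃ g : S, orderOf g = x * y) := by
    intro z hzI
    refine ⟨Finset.card_image_of_injOn ?_, ?_, ?_⟩
    · intro j hj k hk hjk
      by_contra hne
      exact (hzI j hj).ne (hzI k hk) hne hjk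
    · intro x hx
      obtain ⟨j, hj, rfl⟩ := Finset.mem_image.1 hx
      have h1 := hgood j hj (z j) (hzI j hj).prime (hzI j hj).cls_eq
      exact ⟨(hzI j hj).prime, (hzI j hj).five, h1.2, h1.1⟩
    · intro x hx y hy hxy
      obtain ⟨j, hj, rfl⟩ := Finset.mem_image.1 hx
      obtain ⟨k, hk, rfl⟩ := Finset.mem_image.1 hy
      have hjk : j ≠ k := fun hjk => hxy (by rw [hjk])
      exact h.not_adj_S (hzI j hj) (hzI k hk) (hna j hj k hk hjk)
  refine ⟨?_, ?_⟩
  · obtain ⟨h1, h2, h3⟩ := key z hzI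
    exact rkFive_of hF h2 h3 (by omega)
  · intro j hj r hr hrj
    set z' : ℕ → ℕ := fun k => if k = j then r else z k with hz'
    have hz'I : ∀ k ∈ I, In t (p ^ f) k (z' k) := by
      intro k hk
      by_cases hkj : k = j
      · subst hkj
        rw [hz']
        change In t (p ^ f) k (if k = k then r else z k)
        rw [if_pos rfl]
        exact ⟨hr, hrj, (hreg k hk).1, (hreg k hk).2⟩
      · rw [hz']
        change In t (p ^ f) k (if k = j then r else z k)
        rw [if_neg hkj]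
        exact hzI k hk
    obtain ⟨h1, h2, h3⟩ := key z' hz'I
    refine reg_five hF h2 h3 (by omega) r ?_
    refine Finset.mem_image.2 ⟨j, hj, ?_⟩
    rw [hz']
    exact if_pos rfl

/-- the big classes of `L`: regular classes in `S`, the rank of `S` -/
theorem core_big (h : LS t p f L G) (hR : Red G K S) (hF : Frm G K S t' v f') (h5 : Five t)
    (hq : FldOk t (p ^ f)) :
    RkFive t' ∧ ∀ j, Big t j → ∀ r : ℕ, r.Prime → cls t (p ^ f) r = j → 3 ≤ cls t' (v ^ f') r ∧
      mem t' (cls t' (v ^ f') r) := by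
  have h1 := core h hF (I := BigF t) (fun j hj => ⟨(mem_BigF.1 hj).1, (mem_BigF.1 hj).2.1⟩)
    (fun j hj k hk hjk => na_of_big h.cla (mem_BigF.1 hj) (mem_BigF.1 hk) hjk)
    (fun j hj => by
      obtain ⟨r, hr⟩ := exists_big_cls h h5 hq (mem_BigF.1 hj)
      exact ⟨r, hr.prime, hr.cls_eq⟩)
    (fun j hj r hr hrj => ⟨(h.good_big hR hF h5 hq (mem_BigF.1 hj) hr hrj).2,
      h.big_ne_v hR hF h5 hq (mem_BigF.1 hj) hr hrj⟩) (card_BigF h5)
  exact ⟨h1.1, fun j hj => h1.2 j (mem_BigF.2 hj)⟩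

/-- **Five big classes in `L`: the rank of `S`.** -/
theorem rkFive_big (h : LS t p f L G) (hR : Red G K S) (hF : Frm G K S t' v f') (h5 : Five t)
    (hq : FldOk t (p ^ f)) : RkFive t' := (core_big h hR hF h5 hq).1

/-- the rank of `S`, `q` at least three -/
theorem rkFive (h : LS t p f L G) (hR : Red G K S) (hF : Frm G K S t' v f') (h5 : Five t) (hq : 3 ≤ p ^ f) :
    RkFive t' := by
  refine rkFive_big h hR hF h5 ?_
  cases t with
  | psl n => exact fun hq2 => by omega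
  | psu n => exact fun hq2 => by omega
  | _ => trivial

theorem rkFour (h : LS t p f L G) (hR : Red G K S) (hF : Frm G K S t' v f') (h5 : Five t) (hq : 3 ≤ p ^ f) :
    RkFour t' := rkFour_of_rkFive (rkFive h hR hF h5 hq)

/-- **The primes of the big classes of `L` have regular classes in `S`.** -/
theorem big_reg (h : LS t p f L G) (hR : Red G K S) (hF : Frm G K S t' v f') (h5 : Five t)
    (hq : FldOk t (p ^ f)) {j r : ℕ} (hj : Big t j) (hr : r.Prime) (hrj : cls t (p ^ f) r = j) :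
    3 ≤ cls t' (v ^ f') r ∧ mem t' (cls t' (v ^ f') r) := (core_big h hR hF h5 hq).2 j hj r hr hrj

/-- a list of five classes -/
theorem core_list (h : LS t p f L G) (hR : Red G K S) (hF : Frm G K S t' v f') (hq : 3 ≤ p ^ f) {I : List ℕ}
    (hc : coqB t I = true) (hlen : 5 ≤ I.toFinset.card) (hk : ∀ i ∈ I, Killer (fun j => j ∈ I) i) :
    RkFive t' ∧ ∀ j ∈ I, ∀ r : ℕ, r.Prime → cls t (p ^ f) r = j → 3 ≤ cls t' (v ^ f') r ∧
      mem t' (cls t' (v ^ f') r) := by
  obtain ⟨h1, h2⟩ := coqB_of hc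
  have h3 := core h hF (I := I.toFinset) h1 h2
    (fun j hj => exists_cls h.q_pos (h1 j hj).1 fun hq2 => by omega)
    (fun j hj r hr hrj => ⟨(h.good_five hR hF hc hlen (Or.inl hq) (List.mem_toFinset.1 hj)
      (hk j (List.mem_toFinset.1 hj)) hr hrj).2, h.list_ne_v hR hF hq hc hlen (List.mem_toFinset.1 hj) hr hrj⟩) hlen
  exact ⟨h3.1, fun j hj => h3.2 j (List.mem_toFinset.2 hj)⟩

/-- ranks 5, 6 of `psp`, `oodd`, rank 6 of `ominus` -/
theorem core_small (h : LS t p f L G) (hR : Red G K S) (hF : Frm G K S t' v f') (hq : 3 ≤ p ^ f) (ht : SmallT t) :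
    RkFive t' ∧ ∀ j ∈ smallI t, ∀ r : ℕ, r.Prime → cls t (p ^ f) r = j → 3 ≤ cls t' (v ^ f') r ∧
      mem t' (cls t' (v ^ f') r) :=
  core_list h hR hF hq (smallT_coq ht).1 (smallT_coq ht).2 fun i hi => (killer_small hi).2.2

/-- **Ranks 5 and 6, five classes: the rank of `S`.** -/
theorem rkFive_small (h : LS t p f L G) (hR : Red G K S) (hF : Frm G K S t' v f') (hq : 3 ≤ p ^ f) (ht : SmallT t) :
    RkFive t' := (core_small h hR hF hq ht).1

theorem small_reg (h : LS t p f L G) (hR : Red G K S) (hF : Frm G K S t' v f') (hq : 3 ≤ p ^ f) (ht : SmallT t)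
    {j r : ℕ} (hj : j ∈ smallI t) (hr : r.Prime) (hrj : cls t (p ^ f) r = j) :
    3 ≤ cls t' (v ^ f') r ∧ mem t' (cls t' (v ^ f') r) := (core_small h hR hF hq ht).2 j hj r hr hrj

/-- **The rank of `S`**, all cases with five classes in `L`. -/
theorem rkFive_all (h : LS t p f L G) (hR : Red G K S) (hF : Frm G K S t' v f') (hq : 3 ≤ p ^ f)
    (ht : Five t ∨ SmallT t) : RkFive t' := by
  rcases ht with ht | ht
  · exact rkFive h hR hF ht hq
  · exact rkFive_small h hR hF hq ht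

end L

end Cfsg.Agent.R2.Spec.RKS
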